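import Mathlib.GroupTheory.SpecificGroups.Alternating
import Mathlib.GroupTheory.Sylow
import Mathlib.Algebra.Group.Subgroup.Basic

/-!
Subgroups of order four in the square of the alternating group of degree four.
-/

set_option autoImplicit false
set_option linter.style.haveILetI false

namespace CfsgLib.AltFourSquare

abbrev A4 : Type := ↥(alternatingGroup (Fin 4))

theorem invol_of_two_power : ∀ v : A4, v ^ 16 = 1 → v * v = 1 := by decide +kernel

theorem cube_of_nine : ∀ a : A4, a ^ 9 = 1 → a * a * a = 1 := by decide +kernel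

theorem orbit_facts : ∀ a v w : A4, a * a * a = 1 → a ≠ 1 → v * v = 1 → v ≠ 1 → w * w = 1 →
    v * (a * v * a⁻¹) = a⁻¹ * v * a ∧ a * v * a⁻¹ ≠ v ∧ a * v * a⁻¹ ≠ 1 ∧
      (w = 1 ∨ w = v ∨ w = a * v * a⁻¹ ∨ w = a⁻¹ * v * a) := by
  decide +kernel

theorem card_sq : Nat.card (A4 × A4) = 144 := by
  rw [Nat.card_prod, Nat.card_eq_fintype_card]
  rfl

/-- The statement. -/
theorem order_four_subgroup (X : Sylow 2 (A4 × A4)) (Q : Sylow 3 (A4 × A4))
    (B : Subgroup (A4 × A4)) (hBX : B ≤ (X : Subgroup (A4 × A4))) (hB4 : Nat.card ↥B = 4) :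
    B ⊓ ((X : Subgroup (A4 × A4)) ⊓ Subgroup.prod ⊤ ⊥) ≠ ⊥ ∨
      B ⊓ ((X : Subgroup (A4 × A4)) ⊓ Subgroup.prod ⊥ ⊤) ≠ ⊥ ∨
      ∃ R : Subgroup (A4 × A4), R ≤ (Q : Subgroup (A4 × A4)) ∧ Nat.card ↥R = 3 ∧
        R ≠ (Q : Subgroup (A4 × A4)) ⊓ Subgroup.prod ⊤ ⊥ ∧
        R ≠ (Q : Subgroup (A4 × A4)) ⊓ Subgroup.prod ⊥ ⊤ ∧
        R ≤ Subgroup.normalizer (B : Set (A4 × A4)) := by
  haveI : Fact (Nat.Prime 2) := ⟨Nat.prime_two⟩
  haveI : Fact (Nat.Prime 3) := ⟨Nat.prime_three⟩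
  have hXc : Nat.card X = 16 := by
    rw [X.card_eq_multiplicity, card_sq, show (144 : ℕ) = 2 ^ 4 * 9 from rfl,
      Nat.factorization_mul (by norm_num) (by norm_num), Finsupp.add_apply,
      Nat.prime_two.factorization_pow, Finsupp.single_eq_same,
      Nat.factorization_eq_zero_of_not_dvd (show ¬ 2 ∣ 9 by norm_num)]
    norm_num
  have hQc : Nat.card Q = 9 := by
    rw [Q.card_eq_multiplicity, card_sq, show (144 : ℕ) = 3 ^ 2 * 16 from rfl,
      Nat.factorization_mul (by norm_num) (by norm_num), Finsupp.add_apply,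
      Nat.prime_three.factorization_pow, Finsupp.single_eq_same,
      Nat.factorization_eq_zero_of_not_dvd (show ¬ 3 ∣ 16 by norm_num)]
    norm_num
  have hB2 : ∀ u ∈ B, u.1 * u.1 = 1 ∧ u.2 * u.2 = 1 := by
    intro u hu
    have h := pow_card_eq_one' (G := (X : Subgroup (A4 × A4))) (x := ⟨u, hBX hu⟩)
    rw [hXc] at h
    have h' : u ^ 16 = 1 := congrArg Subtype.val h
    exact ⟨invol_of_two_power _ (congrArg Prod.fst h'), invol_of_two_power _ (congrArg Prod.snd h')⟩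
  by_cases h1 : B ⊓ ((X : Subgroup (A4 × A4)) ⊓ Subgroup.prod ⊤ ⊥) = ⊥
  swap
  · exact Or.inl h1
  by_cases h2 : B ⊓ ((X : Subgroup (A4 × A4)) ⊓ Subgroup.prod ⊥ ⊤) = ⊥
  swap
  · exact Or.inr (Or.inl h2)
  refine Or.inr (Or.inr ?_)
  have hs : ∀ u ∈ B, u.2 = 1 → u = 1 := fun u hu h =>
    (Subgroup.eq_bot_iff_forall _).1 h1 u ⟨hu, hBX hu, Subgroup.mem_prod.2 ⟨trivial, h⟩⟩
  have hf : ∀ u ∈ B, u.1 = 1 → u = 1 := fun u hu h =>
    (Subgroup.eq_bot_iff_forall _).1 h2 u ⟨hu, hBX hu, Subgroup.mem_prod.2 ⟨h, trivial⟩⟩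
  -- elements of Q in the factors
  have hdvd : ∀ (f : (A4 × A4) →* A4),
      ∃ q ∈ (Q : Subgroup (A4 × A4)), q ≠ 1 ∧ f q = 1 := by
    intro f
    by_contra hcon
    push Not at hcon
    have hinj : Function.Injective (f.comp (Q : Subgroup (A4 × A4)).subtype) := by
      rw [injective_iff_map_eq_one]
      intro q hq
      by_contra hne
      exact hcon q q.2 (fun e => hne (Subtype.ext e)) hq
    have := Subgroup.card_dvd_of_injective _ hinj
    rw [hQc, Nat.card_eq_fintype_card] at this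
    exact absurd this (by decide)
  have hQ9 : ∀ q ∈ (Q : Subgroup (A4 × A4)), q ^ 9 = 1 := by
    intro q hq
    have h := pow_card_eq_one' (G := (Q : Subgroup (A4 × A4))) (x := ⟨q, hq⟩)
    rw [hQc] at h
    exact congrArg Subtype.val h
  obtain ⟨⟨a, a'⟩, haQ, ha1, ha'⟩ := hdvd (MonoidHom.snd A4 A4)
  obtain ⟨⟨b', b⟩, hbQ, hb1, hb'⟩ := hdvd (MonoidHom.fst A4 A4)
  change a' = 1 at ha'
  change b' = 1 at hb'
  subst ha' hb'
  have ha3 : a * a * a = 1 := cube_of_nine a (congrArg Prod.fst (hQ9 _ haQ))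
  have hb3 : b * b * b = 1 := cube_of_nine b (congrArg Prod.snd (hQ9 _ hbQ))
  have hane : a ≠ 1 := fun e => ha1 (by rw [e]; rfl)
  have hbne : b ≠ 1 := fun e => hb1 (by rw [e]; rfl)
  -- the first coordinates fill the four-group
  obtain ⟨⟨v, w⟩, hvB, hv1⟩ : ∃ u ∈ B, u ≠ 1 := by
    refine (Subgroup.bot_or_exists_ne_one B).resolve_left fun e => ?_
    rw [e, Subgroup.card_bot] at hB4
    omega
  have hvne : v ≠ 1 := fun e => hv1 (hf _ hvB e)
  have hwne : w ≠ 1 := fun e => hv1 (hs _ hvB e)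
  have hv2 := (hB2 _ hvB).1
  have hw2 := (hB2 _ hvB).2
  obtain ⟨hprod, hvv', hv'1, -⟩ := orbit_facts a v v ha3 hane hv2 hvne hv2
  have huniq : ∀ u ∈ B, ∀ u' ∈ B, u.1 = u'.1 → u = u' := fun u hu u' hu' e =>
    mul_inv_eq_one.1 (hf _ (mul_mem hu (inv_mem hu')) (by simp [e]))
  obtain ⟨⟨x, w'⟩, hxB, hx⟩ : ∃ u ∈ B, u.1 = a * v * a⁻¹ := by
    by_contra hcon
    push Not at hcon
    classical
    have hsub : (Set.toFinset ((fun u : A4 × A4 => u.1) '' (B : Set (A4 × A4)))) ⊆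
        ({1, v, a⁻¹ * v * a} : Finset A4) := by
      intro z hz
      obtain ⟨u, hu, rfl⟩ := Set.mem_toFinset.1 hz
      rcases (orbit_facts a v u.1 ha3 hane hv2 hvne (hB2 u hu).1).2.2.2 with h | h | h | h
      · simp [h]
      · simp [h]
      · exact absurd h (hcon u hu)
      · simp [h]
    have h4 : (Set.toFinset ((fun u : A4 × A4 => u.1) '' (B : Set (A4 × A4)))).card = 4 := by
      rw [Set.toFinset_card, ← Nat.card_eq_fintype_card, Nat.card_coe_set_eq,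
        Set.InjOn.ncard_image (fun u hu u' hu' e => huniq u hu u' hu' e), ← Nat.card_coe_set_eq,
        SetLike.coe_sort_coe, hB4]
    have := (Finset.card_le_card hsub).trans Finset.card_le_three
    omega
  change x = a * v * a⁻¹ at hx
  subst hx
  have hw'2 : w' * w' = 1 := (hB2 _ hxB).2
  have hw'1 : w' ≠ 1 := fun e => hv'1 (congrArg Prod.fst (hs _ hxB e))
  have hww' : w' ≠ w := fun e => hvv' (congrArg Prod.fst
    (mul_inv_eq_one.1 (hs _ (mul_mem hxB (inv_mem hvB)) (by simp [e]))))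
  obtain ⟨c, hcQ, hc3, hcne, hcw⟩ : ∃ c : A4, (((1 : A4), c) : A4 × A4) ∈ (Q : Subgroup (A4 × A4)) ∧
      c * c * c = 1 ∧ c ≠ 1 ∧ c * w * c⁻¹ = w' := by
    rcases (orbit_facts b w w' hb3 hbne hw2 hwne hw'2).2.2.2 with h | h | h | h
    · exact absurd h hw'1
    · exact absurd h hww'
    · exact ⟨b, hbQ, hb3, hbne, h.symm⟩
    · refine ⟨b⁻¹, ?_, ?_, inv_ne_one.2 hbne, by rw [inv_inv]; exact h.symm⟩
      · have := inv_mem hbQ
        simpa using this
      · rw [← mul_inv_rev, ← mul_inv_rev, ← mul_assoc, hb3, inv_one]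
  have hrQ : ((a, c) : A4 × A4) ∈ (Q : Subgroup (A4 × A4)) := by
    have := mul_mem haQ hcQ
    simpa using this
  refine ⟨Subgroup.zpowers (a, c), Subgroup.zpowers_le.2 hrQ, ?_, ?_, ?_, ?_⟩
  · rw [Nat.card_zpowers]
    refine orderOf_eq_prime ?_ (fun e => hane (congrArg Prod.fst e))
    rw [pow_succ, pow_two]
    exact Prod.ext ha3 hc3
  · intro e
    exact hcne (Subgroup.mem_prod.1 (Subgroup.mem_inf.1 (e ▸ Subgroup.mem_zpowers ((a, c) : A4 × A4))).2).2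
  · intro e
    exact hane (Subgroup.mem_prod.1 (Subgroup.mem_inf.1 (e ▸ Subgroup.mem_zpowers ((a, c) : A4 × A4))).2).1
  rw [Subgroup.zpowers_le]
  obtain ⟨hprod2, -, -, -⟩ := orbit_facts c w w hc3 hcne hw2 hwne hw2
  have ha2 : a * a = a⁻¹ := eq_inv_of_mul_eq_one_left ha3
  have hc2 : c * c = c⁻¹ := eq_inv_of_mul_eq_one_left hc3
  have h3 : ((a⁻¹ * v * a, c⁻¹ * w * c) : A4 × A4) ∈ B := by
    have h := mul_mem hvB hxB
    rwa [← hcw, Prod.mk_mul_mk, hprod, hprod2] at h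
  have hconj : ∀ u ∈ B, ((a, c) : A4 × A4) * u * (a, c)⁻¹ ∈ B := by
    intro u hu
    rcases (orbit_facts a v u.1 ha3 hane hv2 hvne (hB2 u hu).1).2.2.2 with h | h | h | h
    · rw [hf u hu h, mul_one, mul_inv_cancel]; exact one_mem B
    · rw [huniq u hu _ hvB h, Prod.inv_mk, Prod.mk_mul_mk, Prod.mk_mul_mk, hcw]; exact hxB
    · rw [huniq u hu _ hxB h, Prod.inv_mk, Prod.mk_mul_mk, Prod.mk_mul_mk, ← hcw]
      convert h3 using 2
      · rw [show a * (a * v * a⁻¹) * a⁻¹ = (a * a) * v * (a * a)⁻¹ by simp [mul_assoc], ha2, inv_inv]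
      · rw [show c * (c * w * c⁻¹) * c⁻¹ = (c * c) * w * (c * c)⁻¹ by simp [mul_assoc], hc2, inv_inv]
    · rw [huniq u hu _ h3 h, Prod.inv_mk, Prod.mk_mul_mk, Prod.mk_mul_mk]
      convert hvB using 2 <;> simp [mul_assoc]
  rw [Subgroup.mem_normalizer_iff]
  intro u
  refine ⟨hconj u, fun hu => ?_⟩
  have hcube : ((a, c) : A4 × A4) * (a, c) * (a, c) = 1 := Prod.ext ha3 hc3
  have h := hconj _ (hconj _ hu)
  have e : ((a, c) : A4 × A4) * ((a, c) * ((a, c) * u * (a, c)⁻¹) * (a, c)⁻¹) * (a, c)⁻¹ =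
      ((a, c) * (a, c) * (a, c)) * u * ((a, c) * (a, c) * (a, c))⁻¹ := by
    generalize ((a, c) : A4 × A4) = r
    group
  rw [e, hcube, one_mul, inv_one, mul_one] at h
  exact h

end CfsgLib.AltFourSquare
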